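import Cfsg.Agent.L0.KK.A
import Cfsg.Agent.H3.KK2
import Cfsg.Agent.H9.KC8

/-! Local filters for class data of simple groups. -/

set_option autoImplicit false
set_option linter.unusedSectionVars false

namespace Cfsg.Agent.L0.KK

open Cfsg.Agent.H1 Cfsg.Agent.H9.KC Subgroup

variable {G : Type*} [Group G] [Finite G]

/-- F1 -/
theorem f1 [IsSimpleGroup G] (hG : ¬ IsMulCommutative G) {x : G} (hx : x ≠ 1) :
    Nat.card G ∣ (Nat.card G / (cz x * ez x)).factorial := by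
  have h : normalizer (zpowers x : Set G) ≠ ⊤ := fun e => by
    rcases IsSimpleGroup.eq_bot_or_eq_top_of_normal (zpowers x) (normalizer_eq_top_iff.1 e) with e | e
    · exact hx (zpowers_eq_bot.1 e)
    · exact cent_ne_top hG hx (eq_top_iff.2 (e ▸ zpowers_le.2 (mem_centralizer_singleton_iff.2 rfl)))
  have := H3.KK.dvd_fact h
  rwa [cz_mul_ez, ← index_mul_card (normalizer (zpowers x : Set G)), Nat.mul_div_cancel _ Nat.card_pos,
    index_mul_card]

/-- F4 -/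
theorem f4 (h4 : ∀ g : G, orderOf g ≠ 4) (h2 : ∀ s t : G, orderOf s = 2 → orderOf t = 2 → IsConj s t) {a m : ℕ}
    (ha : Nat.card G = 2 ^ (a + 1) * m) (hm : ¬ 2 ∣ m) : 2 ^ (a + 1) - 1 ∣ Nat.card G := by
  obtain ⟨S⟩ : Nonempty (Sylow 2 G) := inferInstance
  have c := H3.KK.syl_card S ha hm
  have o2 : ∀ y ∈ S, y ≠ 1 → orderOf y = 2 := fun y hy y1 => by
    obtain ⟨k, hk⟩ := (IsPGroup.iff_orderOf.1 S.2) ⟨y, hy⟩
    rw [← orderOf_coe] at hk
    rcases k with _ | _ | k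
    · exact absurd (by simpa using hk) y1
    · simpa using hk
    · refine absurd ?_ (h4 (y ^ 2 ^ k))
      rw [orderOf_pow' _ (by positivity), hk, Nat.gcd_eq_right (pow_dvd_pow 2 (by omega)), Nat.pow_div (by omega) two_pos,
        show k + 1 + 1 - k = 2 by omega]
      rfl
  have sq : ∀ y ∈ S, y⁻¹ = y := fun y hy => by
    by_cases y1 : y = 1
    · simp [y1]
    exact inv_eq_of_mul_eq_one_left (sq_of_ord (o2 y hy y1))
  have : IsMulCommutative S := ⟨⟨fun a b => Subtype.ext (by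
    have := sq _ (mul_mem a.2 b.2)
    rw [mul_inv_rev, sq _ a.2, sq _ b.2] at this
    exact this.symm)⟩⟩
  obtain ⟨x, hx, x2⟩ := H3.KK.ex_ord (S : Subgroup G) 2 (by rw [c]; exact dvd_pow_self 2 (by omega))
  have x1 : x ≠ 1 := by rintro rfl; simp at x2
  have lN : ∀ y ∈ S, y ∈ normalizer (S : Set G) := fun y hy => (S : Subgroup G).le_normalizer hy
  let x' : normalizer (S : Set G) := ⟨x, lN x hx⟩
  refine Dvd.dvd.trans ?_ ((index_dvd_card (centralizer {x'})).trans (card_subgroup_dvd_card _))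
  have := Fintype.ofFinite (normalizer (S : Set G))
  rw [index_centralizer_eq, ← c]
  have e : {y : normalizer (S : Set G) // IsConj x' y} ≃ {y : (S : Subgroup G) // y ≠ 1} := Equiv.ofBijective
    (fun y => ⟨⟨y.1.1, by
      obtain ⟨g, hg⟩ := isConj_iff.1 y.2
      exact hg ▸ (g.2 x).1 hx⟩, fun e => x1 (by
        have h1 : y.1 = 1 := Subtype.ext (congrArg Subtype.val e :)
        have := y.2
        rw [h1, isConj_one_left] at this
        exact congrArg Subtype.val this)⟩)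
    ⟨fun y z e => Subtype.ext (Subtype.ext (congrArg (·.1.1) e)), fun y => by
      obtain ⟨g, hg⟩ := isConj_iff.1 (h2 x y.1.1 x2 (o2 _ y.1.2 fun e => y.2 (Subtype.ext e)))
      obtain ⟨n, n1, n2⟩ := S.conj_eq_normalizer_conj_of_mem x g⁻¹ hx (by rw [inv_inv, hg]; exact y.1.2)
      refine ⟨⟨⟨y.1.1, lN _ y.1.2⟩, isConj_iff.2 ⟨⟨n⁻¹, inv_mem n1⟩, Subtype.ext ?_⟩⟩, rfl⟩
      rw [inv_inv, hg] at n2
      simpa using n2.symm⟩
  rw [Nat.card_congr e]
  classical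
  have := Fintype.ofFinite (S : Subgroup G)
  simp [Nat.card_eq_fintype_card]

theorem core_dvd (H : Subgroup G) : H.normalCore.index ∣ H.index.factorial := by
  rw [normalCore_eq_ker, index_ker, index_eq_card, ← Nat.card_perm]
  exact card_subgroup_dvd_card (MulAction.toPermHom G (G ⧸ H)).range

theorem normal_center {p : ℕ} [Fact p.Prime] (hG : IsPGroup p G) (K : Subgroup G) [K.Normal] (hK : K ≠ ⊥) :
    ∃ w ∈ K, orderOf w = p ∧ w ∈ center G := by
  have h1 : p ∣ Nat.card K := by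
    obtain ⟨k, hk⟩ := IsPGroup.iff_card.1 (hG.to_subgroup K)
    rcases k with _ | k
    · exact absurd (card_eq_one.1 hk) hK
    · exact hk ▸ dvd_pow_self p (by omega)
  obtain ⟨b, b1, b2⟩ := (hG.of_equiv ConjAct.toConjAct).exists_fixed_point_of_prime_dvd_card_of_fixed_point K h1
    (a := 1) (fun g => smul_one g)
  have b3 : b.1 ∈ center G := mem_center_iff.2 fun g => by
    have := congrArg Subtype.val (b1 (ConjAct.toConjAct g))
    exact mul_inv_eq_iff_eq_mul.1 this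
  have b4 : b.1 ≠ 1 := fun e => b2 (Subtype.ext e.symm)
  obtain ⟨k, hk⟩ := IsPGroup.iff_orderOf.1 hG b.1
  rcases k with _ | k
  · exact absurd (by simpa using hk) b4
  refine ⟨b.1 ^ p ^ k, pow_mem b.2 _, ?_, pow_mem b3 _⟩
  rw [orderOf_pow' _ (pow_ne_zero _ (Fact.out : p.Prime).ne_zero), hk, Nat.gcd_eq_right (pow_dvd_pow p (by omega)),
    Nat.pow_div (by omega) (Fact.out : p.Prime).pos, Nat.add_sub_cancel_left, pow_one]

/-- F5 -/
theorem f5 {a m : ℕ} (ha : Nat.card G = 2 ^ (a + 4) * m) (hm : ¬ 2 ∣ m) {x : G} (hx : 2 ^ (a + 2) ∣ cz x) :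
    ∃ w : G, orderOf w = 2 ∧ Commute w x ∧ 2 ^ (a + 4) ∣ cz w := by
  obtain ⟨V, V1, V2⟩ : ∃ V ≤ centralizer ({x} : Set G), Nat.card V = 2 ^ (a + 2) := by
    obtain ⟨V, hV⟩ := Sylow.exists_subgroup_card_pow_prime 2 hx
    exact ⟨V.map (Subgroup.subtype _), map_subtype_le V, by rw [card_map_of_injective Subtype.val_injective, hV]⟩
  obtain ⟨S, hS⟩ := (IsPGroup.of_card V2).exists_le_sylow
  have c := H3.KK.syl_card S ha hm
  have i1 : (V.subgroupOf S).index = 4 := by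
    have := (V.subgroupOf S).index_mul_card
    rw [Nat.card_congr (subgroupOfEquivOfLe hS).toEquiv, V2, c, show 2 ^ (a + 4) = 4 * 2 ^ (a + 2) by ring] at this
    exact Nat.eq_of_mul_eq_mul_right (by positivity) this
  obtain ⟨w, w1, w2, w3⟩ := normal_center S.2 (V.subgroupOf S).normalCore fun e => by
    have := core_dvd (V.subgroupOf S)
    rw [e, index_bot, c, i1] at this
    exact absurd ((pow_dvd_pow 2 (by omega : 4 ≤ a + 4)).trans this) (by decide)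
  refine ⟨w, by rw [orderOf_coe, w2], mem_centralizer_singleton_iff.1 (V1 (normalCore_le (V.subgroupOf S) w1)), ?_⟩
  rw [← c]
  exact card_dvd_of_le fun y hy => mem_centralizer_singleton_iff.2
    (congrArg Subtype.val (mem_center_iff.1 w3 ⟨y, hy⟩))

theorem dvd_cz {x y : G} (h : Commute x y) : orderOf x ∣ cz y :=
  orderOf_dvd_natCard (centralizer {y}) (mem_centralizer_singleton_iff.2 h)

theorem f6a (hc : Nat.card G = 48) {y : G} (oy : orderOf y = 4) (hz : y ^ 2 ∈ center G) (cy : cz y = 16)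
    (h3 : ∀ x : G, orderOf x = 3 → ¬ 4 ∣ cz x) : False := by
  have : Fact (Nat.Prime 3) := ⟨Nat.prime_three⟩
  have i1 : (centralizer {y}).index = 3 := by
    have := (centralizer {y}).index_mul_card
    rw [show Nat.card _ = _ from cy, hc] at this
    omega
  set Q := (centralizer ({y} : Set G)).normalCore
  have q1 : 4 ∣ Nat.card Q := by
    have h1 := core_dvd (centralizer {y})
    have h2 := Q.index_mul_card
    rw [i1] at h1
    obtain ⟨k, hk⟩ := h1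
    have : Nat.card Q * 6 = 48 * Nat.card Q * Q.index * k / 48 := by
      rw [show 6 = Q.index * k from hk]
      rw [mul_assoc, mul_assoc, Nat.mul_div_cancel_left _ (by norm_num)]
    have h5 : 6 * Nat.card Q = 48 * k := by
      rw [← hc, ← h2, show 6 = Q.index * k from hk]; ring
    omega
  have yK : y ∈ centralizer (Q : Set G) := fun q hq => mem_centralizer_singleton_iff.1 (normalCore_le _ hq)
  have k3 : ¬ 3 ∣ Nat.card (centralizer (Q : Set G)) := fun h => by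
    obtain ⟨x, x1, x2⟩ := H3.KK.ex_ord _ 3 h
    exact h3 x x2 (q1.trans (card_dvd_of_le fun q hq => mem_centralizer_singleton_iff.2 (x1 q hq)))
  have p1 : IsPGroup 2 (centralizer (Q : Set G)) := by
    have h1 : Nat.card (centralizer (Q : Set G)) ∣ 2 ^ 4 * 3 := (card_subgroup_dvd_card _).trans (by rw [hc]; decide)
    obtain ⟨k, -, hk⟩ := (Nat.dvd_prime_pow Nat.prime_two).1
      (((Nat.Prime.coprime_iff_not_dvd Nat.prime_three).2 k3).symm.dvd_of_dvd_mul_right h1)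
    exact .of_card hk
  have p2 : centralizer (Q : Set G) ≤ centralizer {y} := by
    obtain ⟨k, hk⟩ := IsPGroup.iff_card.1 (p1.to_sup_of_normal_left (IsPGroup.of_card (n := 4) cy))
    have h1 : 2 ^ k ∣ 2 ^ 4 * 3 := by
      rw [← hk]
      exact (card_subgroup_dvd_card _).trans (by rw [hc]; decide)
    have h2 := Nat.le_of_dvd (by norm_num) ((Nat.Coprime.pow_left k (by norm_num)).dvd_of_dvd_mul_right h1)
    rw [eq_of_le_of_card_ge (le_sup_right : centralizer {y} ≤ centralizer (Q : Set G) ⊔ centralizer {y})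
      (by rw [hk, show Nat.card _ = _ from cy]; exact h2)]
    exact le_sup_left
  have cm : ∀ g : G, Commute (g * y * g⁻¹) y := fun g =>
    mem_centralizer_singleton_iff.1 (p2 (Normal.conj_mem inferInstance y yK g))
  obtain ⟨x, hx⟩ := exists_prime_orderOf_dvd_card' (G := G) 3 (by rw [hc]; decide)
  have x3 : x * x * x = 1 := by rw [← pow_three', ← hx, pow_orderOf_eq_one]
  have xi : x⁻¹ = x * x := inv_eq_of_mul_eq_one_left x3
  have c1 := cm x
  have c2 := cm x⁻¹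
  rw [inv_inv] at c2
  have c3 : Commute (x * y * x⁻¹) (x⁻¹ * y * x) := by
    have := (cm (x * x)).map (MulAut.conj x⁻¹).toMonoidHom
    simpa [mul_assoc] using this
  have z1 : ∀ g : G, (g * y * g⁻¹) ^ 2 = y ^ 2 := fun g => by
    rw [conj_pow, mem_center_iff.1 hz g, mul_inv_cancel_right]
  have w2 : (y * (x * y * x⁻¹) * (x⁻¹ * y * x)) ^ 2 = y ^ 2 := by
    have := z1 x⁻¹
    rw [inv_inv] at this
    rw [(c2.symm.mul_left c3).mul_pow, c1.symm.mul_pow, z1, this, ← pow_add, show 2 + 2 = 4 by rfl, ← oy,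
      pow_orderOf_eq_one, one_mul]
  have w4 : orderOf (y * (x * y * x⁻¹) * (x⁻¹ * y * x)) = 4 := by
    refine orderOf_eq_prime_pow (p := 2) (n := 1) ?_ ?_
    · rw [pow_one, w2]
      exact pow_ne_one_of_lt_orderOf (by norm_num) (by omega)
    · rw [show 2 ^ (1 + 1) = 2 * 2 by rfl, pow_mul, w2, ← pow_mul, ← show orderOf y = 2 * 2 from oy, pow_orderOf_eq_one]
  refine h3 x hx (w4 ▸ dvd_cz ?_)
  have e : x * (y * (x * y * x⁻¹) * (x⁻¹ * y * x)) * x⁻¹ = y * (x * y * x⁻¹) * (x⁻¹ * y * x) := by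
    calc _ = (x * y * x⁻¹) * ((x * x) * y * (x * x)⁻¹) * y := by group
      _ = (x * y * x⁻¹) * (x⁻¹ * y * x) * y := by rw [← xi, inv_inv]
      _ = _ := by rw [(c1.mul_left c2).eq, mul_assoc y]
  exact (mul_inv_eq_iff_eq_mul.1 e).symm

/-- F6 -/
theorem f6 {y : G} (oy : orderOf y = 4) (cy : cz y = 16) (h2 : ∀ t : G, orderOf t = 2 → cz t = 48)
    (h6 : ∀ u : G, orderOf u = 6 → ¬ 4 ∣ cz u) : False := by
  have oz : orderOf (y ^ 2) = 2 := by rw [orderOf_pow' _ (by norm_num), oy]; rfl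
  have le : centralizer {y} ≤ centralizer {y ^ 2} := fun g hg =>
    mem_centralizer_singleton_iff.2 (Commute.pow_right (mem_centralizer_singleton_iff.1 hg) 2)
  let y' : centralizer ({y ^ 2} : Set G) := ⟨y, le (mem_centralizer_singleton_iff.2 rfl)⟩
  refine f6a (h2 _ oz) (y := y') (by rw [← orderOf_coe, oy])
    (mem_center_iff.2 fun g => Subtype.ext (mem_centralizer_singleton_iff.1 g.2)) ?_ fun x hx h => ?_
  · rw [← cy, cz, cz, ← Nat.card_congr (subgroupOfEquivOfLe le).toEquiv]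
    congr 2
    ext g
    simp only [mem_centralizer_singleton_iff, mem_subgroupOf, Subtype.ext_iff]
    rfl
  · have c : Commute x.1 (y ^ 2) := mem_centralizer_singleton_iff.1 x.2
    refine h6 (x.1 * y ^ 2) (by
      rw [c.orderOf_mul_eq_mul_orderOf_of_coprime (by rw [orderOf_coe, hx, oz]; decide), orderOf_coe, hx, oz]) (h.trans ?_)
    rw [cz, ← card_map_of_injective (f := Subgroup.subtype _) Subtype.val_injective]
    refine card_dvd_of_le ?_
    rintro _ ⟨g, hg, rfl⟩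
    exact mem_centralizer_singleton_iff.2 (Commute.mul_right
      (congrArg Subtype.val (mem_centralizer_singleton_iff.1 hg)) (mem_centralizer_singleton_iff.1 g.2))

theorem not_real {x : G} (hx : orderOf x = 3) (he : ez x = 1) : ¬ IsConj x x⁻¹ := fun h => by
  obtain ⟨g, hg⟩ := isConj_iff.1 h
  have h1 : centralizer {x} = normalizer (zpowers x : Set G) :=
    eq_of_le_of_card_ge (cent_le_norm x) (by have := cz_mul_ez x; rw [he, mul_one] at this; exact this.ge)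
  have h2 : g ∈ centralizer {x} := h1 ▸ mem_norm.2 (by rw [hg, zpowers_inv])
  rw [mem_centralizer_singleton_iff.1 h2, mul_inv_cancel_right] at hg
  have : orderOf x ∣ 2 := orderOf_dvd_of_pow_eq_one (by rw [pow_two]; exact mul_eq_one_iff_eq_inv.2 hg)
  rw [hx] at this
  exact absurd this (by decide)

/-- class data that cannot occur in a simple group -/
def Kill (g : ℕ) (Q : List (ℕ × ℕ × ℕ × ℕ)) : Prop :=
  (∃ q ∈ Q, q.1 ≠ 1 ∧ g / (q.2.2.2 * q.2.2.1) ≤ 12 ∧ ¬ g ∣ (g / (q.2.2.2 * q.2.2.1)).factorial) ∨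
  (∃ q ∈ Q, ∃ t ∈ Q, (q.1 = 5 ∨ q.1 = 7) ∧ q.2.2.2 = q.1 ∧ q.2.2.1 = 2 ∧ t.1 = 2 ∧ 4 * g ≤ q.1 * t.2.2.2 ^ 2) ∨
  (∃ q ∈ Q, ∃ t ∈ Q, q.1 = 3 ∧ q.2.2.2 = 6 ∧ t.1 = 2 ∧ 8 * g ≤ 3 * t.2.2.2 ^ 2) ∨
  (g = 6048 ∧ (∀ q ∈ Q, q.1 ≠ 4) ∧ (∀ q ∈ Q, q.1 = 2 → q = (2, 1, 1, 96)) ∧ Q.count (2, 1, 1, 96) ≤ 1) ∨
  (g = 720 ∧ (∃ q ∈ Q, q.1 = 3 ∧ q.2.2.2 = 36) ∧ ∀ q ∈ Q, q.1 = 2 → ¬ 48 ∣ q.2.2.2) ∨
  ((∃ q ∈ Q, q.1 = 4 ∧ q.2.2.2 = 16) ∧ (∀ q ∈ Q, q.1 = 2 → q.2.2.2 = 48) ∧ ∀ q ∈ Q, q.1 = 6 → ¬ 4 ∣ q.2.2.2) ∨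
  (g = 720 ∧ ∀ q ∈ Q, q.1 = 3 → q.2.2.2 = 18) ∨
  (g = 756 ∧ (3, 1, 2, 18) ∈ Q) ∨
  (g = 1512 ∧ (∀ q ∈ Q, q.1 ≠ 4) ∧ (∀ q ∈ Q, q.1 = 2 → q = (2, 1, 1, 24)) ∧ Q.count (2, 1, 1, 24) ≤ 1 ∧
    ∀ q ∈ Q, q.1 = 3 → 2 ∣ q.2.2.2 → q.2.2.1 = 1) ∨
  (g = 15600 ∧ (∀ q ∈ Q, q.1 = 5 → q.2.2.2 = 25) ∧ ∃ q ∈ Q, q.1 = 3 ∧ q.2.2.2 = 6)

set_option synthInstance.maxSize 4000 in
set_option synthInstance.maxHeartbeats 400000 in
instance decKill (g : ℕ) (Q : List (ℕ × ℕ × ℕ × ℕ)) : Decidable (Kill g Q) := by unfold Kill; infer_instance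

theorem kill_sound [IsSimpleGroup G] (hG : ¬ IsMulCommutative G) {Q : List (ℕ × ℕ × ℕ × ℕ)} (H : Has G Q)
    (h : Kill (Nat.card G) Q) : False := by
  have := Fintype.ofFinite G
  have n4 : (∀ q ∈ Q, q.1 ≠ 4) → ∀ g : G, orderOf g ≠ 4 := fun h g e =>
    H.of_ord (o := 4) (P := fun _ => False) (by norm_num) (fun q hq e => h q hq e) e
  have cj : ∀ c, (∀ q ∈ Q, q.1 = 2 → q = (2, 1, 1, c)) → Q.count (2, 1, 1, c) ≤ 1 →
      ∀ s t : G, orderOf s = 2 → orderOf t = 2 → IsConj s t := fun c h1 h2 s t hs ht =>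
    H.conj (by norm_num) h2 (H.of_ord (by norm_num) h1 hs) (H.of_ord (by norm_num) h1 ht)
  rcases h with ⟨q, hq, h1, -, h2⟩ | ⟨q, hq, t, ht, h1, h2, h3, h4, h5⟩ | ⟨q, hq, t, ht, h1, h2, h3, h4⟩ |
    ⟨hc, h1, h2, h3⟩ | ⟨hc, ⟨q, hq, h1, h2⟩, h3⟩ | ⟨⟨q, hq, h1, h2⟩, h3, h4⟩ | ⟨hc, h1⟩ | ⟨hc, hq⟩ |
    ⟨hc, h1, h2, h3, h4⟩ | ⟨hc, h1, q, hq, h2, h3⟩
  · obtain ⟨x, rfl⟩ := H.ex q hq
    exact h2 (f1 hG (by rintro rfl; simp at h1))
  · obtain ⟨x, rfl⟩ := H.ex q hq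
    obtain ⟨y, rfl⟩ := H.ex t ht
    exact ((f2 hG (by rcases h1 with e | e <;> rw [show orderOf x = _ from e] <;> norm_num) h2 h3).2 y h4).not_ge h5
  · obtain ⟨x, rfl⟩ := H.ex q hq
    obtain ⟨y, rfl⟩ := H.ex t ht
    exact (f3 hG h1 h2 h3).not_ge h4
  · have := f4 (n4 h1) (cj _ h2 h3) (a := 4) (m := 189) hc (by decide)
    rw [hc] at this
    exact absurd this (by decide)
  · obtain ⟨x, rfl⟩ := H.ex q hq
    obtain ⟨w, w1, w2, w3⟩ := f5 (a := 0) (m := 45) hc (by decide) (x := x) (by rw [show cz x = _ from h2]; decide)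
    refine H.of_ord (by norm_num) h3 w1 (Nat.Coprime.mul_dvd_of_dvd_of_dvd (m := 16) (n := 3) (by decide) w3 ?_)
    exact (show orderOf x = 3 from h1) ▸ dvd_cz w2.symm
  · obtain ⟨x, rfl⟩ := H.ex q hq
    exact f6 h1 h2 (fun t ht => H.of_ord (by norm_num) h3 ht) fun t ht => H.of_ord (by norm_num) h4 ht
  · exact H3.KK.k720 hc fun x hx => H.of_ord (by norm_num) h1 hx
  · obtain ⟨x, hx⟩ := H.ex _ hq
    simp only [Prod.mk.injEq] at hx
    exact H3.KK.k756 hc hx.1 hx.2.2.2 (isConj_of_mz hx.2.1 ⟨1, by simp⟩)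
  · refine H3.KK.k1512 hc (n4 h1) (cj _ h2 h3) (fun t ht => ?_) fun x t hx ht c => not_real hx ?_
    · exact congrArg (·.2.2.2) (H.of_ord (by norm_num) h2 ht)
    · exact H.of_ord (by norm_num) h4 hx (ht ▸ dvd_cz c.symm)
  · obtain ⟨x, rfl⟩ := H.ex q hq
    exact H3.KK.k15600 hc (fun y hy => H.of_ord (by norm_num) h1 hy) h2 h3

end Cfsg.Agent.L0.KK
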